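import Groth.Agent.Lib.SiteCoh.LanMono
import Mathlib.CategoryTheory.Sites.Pullback
import Mathlib.CategoryTheory.Category.ULift
import Mathlib.Algebra.Homology.ShortComplex.ExactFunctor
import Mathlib.CategoryTheory.Adjunction.Additive
import Mathlib.Algebra.Category.Grp.Adjunctions
import Mathlib.CategoryTheory.Sites.Abelian

/-! Pullback of abelian sheaves along functors preserving connected finite limits, for large sites. -/

universe w v' u' v u

open CategoryTheory CategoryTheory.Functor CategoryTheory.Limits Opposite

set_option linter.style.haveILetI false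
set_option backward.isDefEq.respectTransparency false
set_option backward.isDefEq.respectTransparency.types false

namespace Groth.Agent.BigSite16

/-- colimits over componentwise filtered categories preserve monomorphisms, in any universe -/
lemma mono_isColimit_map {I : Type u} [Category.{v} I] {F G : I ⥤ AddCommGrpCat.{max w u v}}
    (h₁ : ∀ {i j k : I} (_ : i ⟶ j) (_ : i ⟶ k), ∃ l, Nonempty (j ⟶ l) ∧ Nonempty (k ⟶ l))
    (h₂ : ∀ {i j : I} (f g : i ⟶ j), ∃ (k : I) (h : j ⟶ k), f ≫ h = g ≫ h)
    {s : Cocone F} (hs : IsColimit s) {t : Cocone G} (ht : IsColimit t) (α : F ⟶ G) [∀ i, Mono (α.app i)]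
    (m : s.pt ⟶ t.pt) (hm : ∀ i, s.ι.app i ≫ m = α.app i ≫ t.ι.app i) : Mono m := by
  let e : I ≌ AsSmall.{max w u v} I := AsSmall.equiv
  haveI : ∀ i, Mono ((whiskerLeft e.inverse α).app i) := fun i => inferInstanceAs (Mono (α.app _))
  refine SiteCoh.mono_isColimit_map (I := AsSmall.{max w u v} I) ?_ ?_ (hs.whiskerEquivalence e.symm)
    (ht.whiskerEquivalence e.symm) (whiskerLeft e.inverse α) m (fun i => hm _)
  · intro i j k f g
    obtain ⟨l, ⟨a⟩, ⟨b⟩⟩ := h₁ (AsSmall.down.map f) (AsSmall.down.map g)
    exact ⟨AsSmall.up.obj l, ⟨AsSmall.up.map a⟩, ⟨AsSmall.up.map b⟩⟩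
  · intro i j f g
    obtain ⟨k, h, eh⟩ := h₂ (AsSmall.down.map f) (AsSmall.down.map g)
    exact ⟨AsSmall.up.obj k, AsSmall.up.map h, ULift.ext _ _ eh⟩

variable {C : Type u} [Category.{v} C] {D : Type u'} [Category.{v'} D] (F : C ⥤ D)

/-- left Kan extension preserves monomorphisms for functors preserving connected finite limits -/
lemma preservesMonomorphisms_lan [HasPullbacks C] [HasEqualizers C]
    [PreservesLimitsOfShape WalkingCospan F] [PreservesLimitsOfShape WalkingParallelPair F]
    [∀ P : Cᵒᵖ ⥤ AddCommGrpCat.{max w u v v'}, F.op.HasPointwiseLeftKanExtension P] :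
    (F.op.lan : (Cᵒᵖ ⥤ AddCommGrpCat.{max w u v v'}) ⥤ (Dᵒᵖ ⥤ AddCommGrpCat.{max w u v v'})).PreservesMonomorphisms where
  preserves {P Q} φ _ := by
    haveI : ∀ V, Mono ((F.op.lan.map φ).app V) := fun V => by
      haveI : ∀ g : CostructuredArrow F.op V, Mono ((whiskerLeft (CostructuredArrow.proj F.op V) φ).app g) :=
        fun g => inferInstanceAs (Mono (φ.app g.left))
      refine mono_isColimit_map.{w} (I := CostructuredArrow F.op V) ?_ ?_
        (isPointwiseLeftKanExtensionOfIsLeftKanExtension (F.op.lan.obj P) (F.op.lanUnit.app P) V)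
        (isPointwiseLeftKanExtensionOfIsLeftKanExtension (F.op.lan.obj Q) (F.op.lanUnit.app Q) V)
        (whiskerLeft (CostructuredArrow.proj F.op V) φ) _ (fun g => ?_)
      · intro i j k p q
        haveI := hasPullback_of_preservesPullback F p.left.unop q.left.unop
        refine ⟨CostructuredArrow.mk (Y := op (pullback p.left.unop q.left.unop))
          ((PreservesPullback.iso F p.left.unop q.left.unop).inv.op ≫
            (pullback.lift j.hom.unop k.hom.unop ?_).op), ⟨CostructuredArrow.homMk (pullback.fst _ _).op ?_⟩,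
          ⟨CostructuredArrow.homMk (pullback.snd _ _).op ?_⟩⟩
        · exact Quiver.Hom.op_inj ((CostructuredArrow.w p).trans (CostructuredArrow.w q).symm)
        · apply Quiver.Hom.unop_inj
          dsimp
          rw [Category.assoc, PreservesPullback.iso_inv_fst, pullback.lift_fst]
        · apply Quiver.Hom.unop_inj
          dsimp
          rw [Category.assoc, PreservesPullback.iso_inv_snd, pullback.lift_snd]
      · intro i j p q
        have e : j.hom.unop ≫ F.map p.left.unop = j.hom.unop ≫ F.map q.left.unop :=
          Quiver.Hom.op_inj ((CostructuredArrow.w p).trans (CostructuredArrow.w q).symm)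
        have hl := isLimitForkMapOfIsLimit F (equalizer.condition p.left.unop q.left.unop)
          (equalizerIsEqualizer p.left.unop q.left.unop)
        obtain ⟨r, hr⟩ := Fork.IsLimit.lift' hl j.hom.unop e
        refine ⟨CostructuredArrow.mk (Y := op (equalizer p.left.unop q.left.unop)) r.op,
          CostructuredArrow.homMk (equalizer.ι _ _).op (Quiver.Hom.unop_inj (by simpa using hr)), ?_⟩
        ext
        exact Quiver.Hom.unop_inj (equalizer.condition _ _)
      · have h := NatTrans.congr_app (F.op.lanUnit.naturality φ) g.left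
        show ((F.op.lanUnit.app P).app g.left ≫ (F.op.lan.obj P).map g.hom) ≫ (F.op.lan.map φ).app V =
          φ.app g.left ≫ (F.op.lanUnit.app Q).app g.left ≫ (F.op.lan.obj Q).map g.hom
        erw [Category.assoc, NatTrans.naturality, ← Category.assoc, ← Category.assoc]
        exact congrArg (· ≫ (F.op.lan.obj Q).map g.hom) h.symm
    exact NatTrans.mono_of_mono_app _

/-- pullback of abelian sheaves is exact for functors preserving connected finite limits -/
theorem preservesFiniteLimits_sheafPullback (J : GrothendieckTopology C) (K : GrothendieckTopology D)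
    [F.IsContinuous J K] [HasPullbacks C] [HasEqualizers C]
    [PreservesLimitsOfShape WalkingCospan F] [PreservesLimitsOfShape WalkingParallelPair F]
    [∀ P : Cᵒᵖ ⥤ AddCommGrpCat.{max w u v v'}, F.op.HasPointwiseLeftKanExtension P]
    [HasSheafify J AddCommGrpCat.{max w u v v'}] [HasSheafify K AddCommGrpCat.{max w u v v'}] :
    PreservesFiniteLimits (F.sheafPullback AddCommGrpCat.{max w u v v'} J K) := by
  let L : (Cᵒᵖ ⥤ AddCommGrpCat.{max w u v v'}) ⥤ (Dᵒᵖ ⥤ AddCommGrpCat.{max w u v v'}) := F.op.lan
  haveI : L.PreservesMonomorphisms := preservesMonomorphisms_lan.{w} F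
  haveI : L.IsLeftAdjoint := ⟨_, ⟨F.op.lanAdjunction AddCommGrpCat.{max w u v v'}⟩⟩
  haveI : L.Additive := (F.op.lanAdjunction AddCommGrpCat.{max w u v v'}).left_adjoint_additive
  haveI : PreservesFiniteLimits L := by
    rw [Functor.preservesFiniteLimits_iff_forall_exact_map_and_mono]
    intro S hS
    haveI := hS.mono_f
    exact ⟨hS.exact.map_of_epi_of_preservesCokernel L hS.epi_g inferInstance, inferInstance⟩
  haveI : PreservesFiniteLimits (L ⋙ presheafToSheaf K AddCommGrpCat.{max w u v v'}) := comp_preservesFiniteLimits _ _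
  haveI : PreservesFiniteLimits
      (Functor.sheafPullbackConstruction.sheafPullback F AddCommGrpCat.{max w u v v'} J K) :=
    comp_preservesFiniteLimits (sheafToPresheaf J AddCommGrpCat.{max w u v v'})
      (L ⋙ presheafToSheaf K AddCommGrpCat.{max w u v v'})
  exact preservesFiniteLimits_of_natIso
    (Functor.sheafPullbackConstruction.sheafPullbackIso F AddCommGrpCat.{max w u v v'} J K).symm

end Groth.Agent.BigSite16
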