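import Groth.Agent.Lib.BigSite16.LanExact
import Groth.Prelude.Def_BigSite
import Mathlib.CategoryTheory.Limits.MorphismProperty
import Mathlib.CategoryTheory.Limits.Constructions.Over.Connected

/-! Exactness of the left adjoints of restriction functors of big sites. -/

universe u

open CategoryTheory CategoryTheory.Functor CategoryTheory.Limits Opposite AlgebraicGeometry

set_option linter.style.haveILetI false
set_option backward.isDefEq.respectTransparency false
set_option backward.isDefEq.respectTransparency.types false

namespace Groth.Agent.BigSite16

variable {S T : Scheme.{u}} (f : T ⟶ S) (K : Precoverage Scheme.{u})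

instance preservesFiniteLimits_a : PreservesFiniteLimits (EtFppf.a S) :=
  inferInstanceAs (PreservesFiniteLimits (MorphismProperty.Over.forget (@Etale : MorphismProperty Scheme.{u}) ⊤ S))

lemma preservesLimitsOfShape_overMap (I : Type) [SmallCategory I] [IsConnected I] :
    PreservesLimitsOfShape I (Over.map f) := by
  haveI : PreservesLimitsOfShape I (Over.map f ⋙ Over.forget S) :=
    inferInstanceAs (PreservesLimitsOfShape I (Over.forget T))
  exact preservesLimitsOfShape_of_reflects_of_preserves _ (Over.forget S)

instance preservesPullbacks_overMap : PreservesLimitsOfShape WalkingCospan (Over.map f) :=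
  preservesLimitsOfShape_overMap f _

instance preservesEqualizers_overMap : PreservesLimitsOfShape WalkingParallelPair (Over.map f) :=
  preservesLimitsOfShape_overMap f _

/-- extension by zero along a morphism of schemes is exact -/
instance preservesFiniteLimits_shriekAb : PreservesFiniteLimits (BigSite.shriekAb K f) :=
  preservesFiniteLimits_sheafPullback.{u + 1} (Over.map f) _ _

/-- pullback from the small étale site is exact -/
instance preservesFiniteLimits_piEtPull [BigSite.AEtCont K S] : PreservesFiniteLimits (BigSite.piEtPull K S) :=
  preservesFiniteLimits_sheafPullback.{u + 1} (EtFppf.a S) _ _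

/-- restriction along a morphism preserves injectives -/
lemma injective_pullBig (I : BigSite.Ab K S) [Injective I] :
    Injective ((BigSite.pullBig K f AddCommGrpCat.{u + 1}).obj I) :=
  Injective.injective_of_adjoint (BigSite.shriekAbAdj K f) I

/-- restriction to the small étale site preserves injectives -/
lemma injective_resEt [BigSite.AEtCont K S] (I : BigSite.Ab K S) [Injective I] :
    Injective ((BigSite.resEt K S).obj I) :=
  Injective.injective_of_adjoint (BigSite.piEtAdj K S) I

instance preservesFiniteLimits_resEt [BigSite.AEtCont K S] : PreservesFiniteLimits (BigSite.resEt K S) :=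
  haveI := (BigSite.piEtAdj K S).isRightAdjoint
  inferInstance

instance preservesFiniteColimits_resEt : PreservesFiniteColimits (BigSite.resEt Scheme.etalePrecoverage S) :=
  haveI := (BigSite.iEtAdj Scheme.etalePrecoverage S).isLeftAdjoint
  inferInstance

instance preservesFiniteLimits_pullBig : PreservesFiniteLimits (BigSite.pullBig K f AddCommGrpCat.{u + 1}) :=
  haveI := (BigSite.shriekAbAdj K f).isRightAdjoint
  inferInstance

instance preservesFiniteColimits_pullBig : PreservesFiniteColimits (BigSite.pullBig K f AddCommGrpCat.{u + 1}) :=
  haveI := (BigSite.bigAdj K f AddCommGrpCat.{u + 1}).isLeftAdjoint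
  inferInstance

end Groth.Agent.BigSite16
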