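import Groth.Agent.Lib.BigSite16.Coh
import Mathlib.AlgebraicGeometry.Restrict

/-! The small and big Zariski sites. -/

universe u

open CategoryTheory CategoryTheory.Functor CategoryTheory.Limits Opposite AlgebraicGeometry TopologicalSpace

set_option linter.style.haveILetI false
set_option backward.isDefEq.respectTransparency false
set_option backward.isDefEq.respectTransparency.types false

namespace Groth.Agent.BigSite16

variable (S : Scheme.{u})

/-- the whole scheme is the image of the whole open -/
noncomputable def zarTerminal : IsTerminal ((BigSite.zarIncl S).obj ⊤) :=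
  Over.mkIdTerminal.ofIso (Over.isoMk S.topIso.symm (by exact S.topIso.inv_hom_id) :
    Over.mk (𝟙 S) ≅ (BigSite.zarIncl S).obj ⊤)

instance preservesPullbacks_zarIncl : PreservesLimitsOfShape WalkingCospan (BigSite.zarIncl S) := by
  haveI : ∀ {U V W : S.Opens} (f : U ⟶ W) (g : V ⟶ W), PreservesLimit (cospan f g) (BigSite.zarIncl S) := by
    intro U V W f g
    let a : U ⊓ V ⟶ U := homOfLE inf_le_left
    let b : U ⊓ V ⟶ V := homOfLE inf_le_right
    have w : a ≫ f = b ≫ g := Subsingleton.elim _ _
    have h : IsLimit (PullbackCone.mk a b w) := PullbackCone.IsLimit.mk w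
      (fun s => homOfLE (le_inf s.fst.le s.snd.le)) (fun _ => Subsingleton.elim _ _) (fun _ => Subsingleton.elim _ _)
      (fun _ _ _ _ => Subsingleton.elim _ _)
    have h' : IsPullback ((BigSite.zarIncl S).map a) ((BigSite.zarIncl S).map b) ((BigSite.zarIncl S).map f)
        ((BigSite.zarIncl S).map g) :=
      IsPullback.of_map (Over.forget S) (by rw [← CategoryTheory.Functor.map_comp, ← CategoryTheory.Functor.map_comp, w])
        (isPullback_opens_inf_le f.le g.le)
    exact preservesLimit_of_preserves_limit_cone h ((isLimitMapConePullbackConeEquiv _ w).symm h'.isLimit)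
  exact ⟨fun {K} => preservesLimit_of_iso_diagram _ (diagramIsoCospan K).symm⟩

instance preservesFiniteLimits_zarIncl : PreservesFiniteLimits (BigSite.zarIncl S) := by
  haveI : PreservesLimit (Functor.empty.{0} S.Opens) (BigSite.zarIncl S) :=
    preservesLimit_of_preserves_limit_cone (isTerminalTop : IsTerminal (⊤ : S.Opens))
      (isLimitChangeEmptyCone _ (zarTerminal S) _ (Iso.refl _))
  haveI := preservesLimitsOfShape_pempty_of_preservesTerminal (BigSite.zarIncl S)
  exact preservesFiniteLimits_of_preservesTerminal_and_pullbacks _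

instance isCocontinuous_zarIncl :
    (BigSite.zarIncl S).IsCocontinuous (Opens.grothendieckTopology S) (QuotSh.J Scheme.zariskiPrecoverage S) where
  cover_lift {U R} hR := by
    rw [GrothendieckTopology.mem_over_iff] at hR
    obtain ⟨𝒰, h𝒰⟩ := Scheme.exists_cover_of_mem_grothendieckTopology hR
    intro x hx
    obtain ⟨i, y, hy⟩ := Scheme.Cover.exists_eq 𝒰 (⟨x, hx⟩ : (U : Scheme.{u}))
    haveI : IsOpenImmersion (𝒰.f i) := 𝒰.map_prop i
    let W : S.Opens := U.ι ''ᵁ (𝒰.f i).opensRange
    have hW : W ≤ U := by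
      rintro _ ⟨z, -, rfl⟩
      exact z.2
    refine ⟨W, homOfLE hW, ?_, ⟨⟨x, hx⟩, ⟨y, hy⟩, rfl⟩⟩
    show R.arrows ((BigSite.zarIncl S).map (homOfLE hW))
    have hr : Set.range (S.homOfLE hW) ⊆ Set.range (𝒰.f i) := by
      rintro _ ⟨z, rfl⟩
      obtain ⟨z', hz', e⟩ := z.2
      have : S.homOfLE hW z = z' := U.ι.isOpenEmbedding.injective (by
        rw [← Scheme.Hom.comp_apply, Scheme.homOfLE_ι]
        exact e.symm)
      rw [this]
      exact hz'
    have h1 : R.arrows (Over.homMk (𝒰.f i) : Over.mk (𝒰.f i ≫ U.ι) ⟶ (BigSite.zarIncl S).obj U) :=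
      (Sieve.overEquiv_iff R (𝒰.f i)).1 (h𝒰 _ _ ⟨i⟩)
    have h2 := R.downward_closed h1 (Over.homMk (IsOpenImmersion.lift (𝒰.f i) (S.homOfLE hW) hr) (by
      show _ ≫ 𝒰.f i ≫ U.ι = W.ι
      rw [IsOpenImmersion.lift_fac_assoc, Scheme.homOfLE_ι]) : (BigSite.zarIncl S).obj W ⟶ Over.mk (𝒰.f i ≫ U.ι))
    convert h2 using 1
    apply Over.OverMorphism.ext
    exact (IsOpenImmersion.lift_fac (𝒰.f i) (S.homOfLE hW) hr).symm

variable [BigSite.ZarCont Scheme.zariskiPrecoverage S]

/-- cohomology of the restriction to the small Zariski site -/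
theorem nonempty_H_resZar_equiv (F : BigSite.Ab Scheme.zariskiPrecoverage S) (n : ℕ) :
    Nonempty (EtZar.H ((BigSite.resZar Scheme.zariskiPrecoverage S).obj F) n ≃+
      BigSite.H Scheme.zariskiPrecoverage S F n) := by
  haveI : PreservesFiniteLimits ((BigSite.zarIncl S).sheafPullback AddCommGrpCat.{u + 1}
      (Opens.grothendieckTopology S) (QuotSh.J Scheme.zariskiPrecoverage S)) :=
    preservesFiniteLimits_sheafPullback.{u + 1} (BigSite.zarIncl S) _ _
  let adj := (BigSite.zarIncl S).sheafAdjunctionContinuous AddCommGrpCat.{u + 1}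
    (Opens.grothendieckTopology S) (QuotSh.J Scheme.zariskiPrecoverage S)
  haveI : PreservesFiniteLimits (BigSite.resZar Scheme.zariskiPrecoverage S) :=
    haveI := adj.isRightAdjoint
    inferInstance
  haveI : PreservesFiniteColimits (BigSite.resZar Scheme.zariskiPrecoverage S) :=
    haveI := ((BigSite.zarIncl S).sheafAdjunctionCocontinuous AddCommGrpCat.{u + 1}
      (Opens.grothendieckTopology S) (QuotSh.J Scheme.zariskiPrecoverage S)).isLeftAdjoint
    inferInstance
  exact nonempty_H_push_equiv (BigSite.zarIncl S) (J := Opens.grothendieckTopology S)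
    (K := QuotSh.J Scheme.zariskiPrecoverage S) (isTerminalTop : IsTerminal (⊤ : S.Opens)) (zarTerminal S)
    (fun I hI => haveI := hI; Injective.injective_of_adjoint adj I) F n

end Groth.Agent.BigSite16
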