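import Groth.Agent.Lib.BigSite16.Res
import Mathlib.CategoryTheory.Abelian.RightDerived
import Mathlib.Algebra.Homology.ShortComplex.ExactFunctor
import Mathlib.Algebra.Homology.QuasiIso

/-! Base change for big sites. -/

universe u w v

open CategoryTheory CategoryTheory.Functor CategoryTheory.Limits Opposite AlgebraicGeometry

set_option linter.style.haveILetI false
set_option backward.isDefEq.respectTransparency false
set_option backward.isDefEq.respectTransparency.types false

namespace Groth.Agent.BigSite16

section Derived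

variable {A B E : Type*} [Category A] [Category B] [Category E] [Abelian A] [Abelian B] [Abelian E]
  [EnoughInjectives A]

/-- derived functors commute with exact functors -/
theorem nonempty_rightDerived_comp (F : A ⥤ B) (Φ : B ⥤ E) [F.Additive] [Φ.Additive] [PreservesFiniteLimits Φ]
    [PreservesFiniteColimits Φ] (X : A) (n : ℕ) :
    Nonempty (Φ.obj ((F.rightDerived n).obj X) ≅ ((F ⋙ Φ).rightDerived n).obj X) := by
  let R := InjectiveResolution.of X
  exact ⟨Φ.mapIso (R.isoRightDerivedObj F n) ≪≫
    ((((F.mapHomologicalComplex _).obj R.cocomplex).sc n).mapHomologyIso Φ).symm ≪≫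
    (R.isoRightDerivedObj (F ⋙ Φ) n).symm⟩

/-- derived functors after an exact functor preserving injectives -/
theorem nonempty_rightDerived_precomp [EnoughInjectives B] (Ψ : A ⥤ B) (G : B ⥤ E) [Ψ.Additive] [G.Additive]
    [PreservesFiniteLimits Ψ] [PreservesFiniteColimits Ψ] (hΨ : ∀ I : A, Injective I → Injective (Ψ.obj I))
    (X : A) (n : ℕ) :
    Nonempty ((G.rightDerived n).obj (Ψ.obj X) ≅ ((Ψ ⋙ G).rightDerived n).obj X) := by
  let R := InjectiveResolution.of X
  let R' : InjectiveResolution (Ψ.obj X) :=
    { cocomplex := (Ψ.mapHomologicalComplex _).obj R.cocomplex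
      injective := fun k => hΨ _ (R.injective k)
      ι := (HomologicalComplex.singleMapHomologicalComplex Ψ (ComplexShape.up ℕ) 0).inv.app X ≫
        (Ψ.mapHomologicalComplex _).map R.ι
      quasiIso := inferInstance }
  exact ⟨R'.isoRightDerivedObj G n ≪≫ (R.isoRightDerivedObj (Ψ ⋙ G) n).symm⟩

end Derived

variable {S T S' T' : Scheme.{u}} {f : T ⟶ S} {g : S' ⟶ S} {g' : T' ⟶ T} {f' : T' ⟶ S'}
  (hsq : IsPullback g' f' f g)

/-- the square of base change functors -/
noncomputable def overSquareIso : Over.map g ⋙ Over.pullback f ≅ Over.pullback f' ⋙ Over.map g' :=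
  haveI : ∀ U : Over S', IsPullback (pullback.fst U.hom f') (pullback.snd U.hom f' ≫ g') (U.hom ≫ g) f := fun U =>
    (IsPullback.of_hasPullback U.hom f').paste_vert hsq.flip
  NatIso.ofComponents (fun U => Over.isoMk (this U).isoPullback.symm (by
    simp [IsPullback.isoPullback_inv_snd]))
    (fun {U V} k => by
      ext
      apply (this V).hom_ext <;> simp)

/-- pushforwards along isomorphic composite functors -/
noncomputable def pushCompIso {C C' D D' : Type*} [Category C] [Category C'] [Category D] [Category D']
    (F : C ⥤ D) (G : D ⥤ D') (F' : C ⥤ C') (G' : C' ⥤ D') (e : F ⋙ G ≅ F' ⋙ G')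
    (A : Type*) [Category A] (J : GrothendieckTopology C) (J' : GrothendieckTopology C') (K : GrothendieckTopology D)
    (K' : GrothendieckTopology D') [F.IsContinuous J K] [G.IsContinuous K K'] [F'.IsContinuous J J']
    [G'.IsContinuous J' K'] :
    G.sheafPushforwardContinuous A K K' ⋙ F.sheafPushforwardContinuous A J K ≅
      G'.sheafPushforwardContinuous A J' K' ⋙ F'.sheafPushforwardContinuous A J J' :=
  haveI := Functor.isContinuous_comp F' G' J J' K'
  Functor.sheafPushforwardContinuousComp' e A J K K' ≪≫ (Functor.sheafPushforwardContinuousComp F' G' A J J' K').symm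

/-- base change on big sites -/
noncomputable def pullPushIso (K : Precoverage Scheme.{u}) (A : Type w) [Category.{v} A]
    [(Over.pullback f).IsContinuous (QuotSh.J K S) (QuotSh.J K T)]
    [(Over.pullback f').IsContinuous (QuotSh.J K S') (QuotSh.J K T')] :
    BigSite.pushBig K f A ⋙ BigSite.pullBig K g A ≅ BigSite.pullBig K g' A ⋙ BigSite.pushBig K f' A :=
  pushCompIso (Over.map g) (Over.pullback f) (Over.pullback f') (Over.map g') (overSquareIso hsq) A _ _ _ _

/-- base change functors of the étale sites -/
noncomputable def bcForgetIso (f' : T' ⟶ S') : EtCoh.bc f' ⋙ EtFppf.a T' ≅ EtFppf.a S' ⋙ Over.pullback f' :=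
  MorphismProperty.Over.pullbackCompForgetIso (P := EtCoh.etaleMP) (Q := ⊤) f'

include hsq in
/-- base change towards small étale sites -/
theorem nonempty_resEtAlongPushIso :
    Nonempty (BigSite.pushBig Scheme.etalePrecoverage f AddCommGrpCat.{u + 1} ⋙
        BigSite.resEtAlong Scheme.etalePrecoverage g ≅
      BigSite.resEtAlong Scheme.etalePrecoverage g' ⋙ EtCoh.push f') :=
  ⟨(Functor.associator _ _ _).symm ≪≫
    Functor.isoWhiskerRight (pullPushIso hsq Scheme.etalePrecoverage AddCommGrpCat.{u + 1}) _ ≪≫
    Functor.associator _ _ _ ≪≫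
    Functor.isoWhiskerLeft _ (pushCompIso (EtFppf.a S') (Over.pullback f') (EtCoh.bc f') (EtFppf.a T')
      (bcForgetIso f').symm AddCommGrpCat.{u + 1} S'.smallEtaleTopology T'.smallEtaleTopology
      (QuotSh.J Scheme.etalePrecoverage S') (QuotSh.J Scheme.etalePrecoverage T')) ≪≫
    (Functor.associator _ _ _).symm⟩

end Groth.Agent.BigSite16
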