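import Groth.Agent.Lib.BigSite16.AlmostCocont
import Mathlib.CategoryTheory.Sites.EpiMono
import Mathlib.CategoryTheory.Sites.Abelian
import Mathlib.Algebra.Category.Grp.Abelian
import Mathlib.Algebra.Category.Grp.Colimits
import Mathlib.Algebra.Category.Grp.Adjunctions
import Mathlib.Algebra.Category.Grp.Limits
import Mathlib.Algebra.Category.Grp.FilteredColimits

/-! Almost cocontinuous functors: restriction of abelian sheaves is exact. -/

universe v u v' u'

open CategoryTheory Limits Opposite

namespace Groth.Agent.BigSite16.Cocont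

variable {C : Type u} [Category.{v} C] {D : Type u'} [Category.{v'} D]
  {J : GrothendieckTopology C} {K : GrothendieckTopology D} {u : C ⥤ D}

theorem subsingleton_ab (F : Sheaf K AddCommGrpCat.{max u' v'}) {V : D} (hV : (⊥ : Sieve V) ∈ K V) :
    Subsingleton (F.obj.obj (op V)) :=
  ⟨fun a b => ((((isSheaf_iff_isSheaf_of_type _ (F.obj ⋙ forget AddCommGrpCat.{max u' v'})).1
    ((Presheaf.isSheaf_iff_isSheaf_forget K F.obj (forget AddCommGrpCat.{max u' v'})).1 F.property)) _ hV).isSeparatedFor).ext
      (t₁ := a) (t₂ := b) fun _ _ hf => False.elim hf⟩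

variable [u.IsContinuous J K] (hu : BigSite.IsAlmostCocontinuous u J K)

include hu in
theorem locallySurjective_ab {F G : Sheaf K AddCommGrpCat.{max u' v'}} (η : F ⟶ G)
    [Sheaf.IsLocallySurjective η] :
    Sheaf.IsLocallySurjective ((u.sheafPushforwardContinuous AddCommGrpCat.{max u' v'} J K).map η) := by
  refine ⟨fun {U} s => ?_⟩
  obtain ⟨R', hR', hR⟩ := hu U _ (Presheaf.imageSieve_mem K η.hom (U := op (u.obj U)) s)
  refine J.superset_covering (fun V g hg => ?_) hR'
  rcases hR g hg with h | h
  · haveI := subsingleton_ab G h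
    exact ⟨(0 : F.obj.obj (op (u.obj V))), Subsingleton.elim (α := G.obj.obj (op (u.obj V))) _ _⟩
  · exact h

end Groth.Agent.BigSite16.Cocont
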