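import Mathlib.AlgebraicGeometry.Sites.BigZariski
import Mathlib.AlgebraicGeometry.Limits
import Mathlib.AlgebraicGeometry.Morphisms.QuasiCompact
import Mathlib.CategoryTheory.Sites.Over
import Mathlib.CategoryTheory.Sites.Canonical

/-! Topologies on schemes over a base defined by affine-local finite families in a class of morphisms. -/

universe u

open CategoryTheory CategoryTheory.Limits AlgebraicGeometry Opposite

set_option linter.style.haveILetI false
set_option backward.isDefEq.respectTransparency false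
set_option backward.isDefEq.respectTransparency.types false

namespace Groth.Agent.BigSite16

variable {S : Scheme.{u}} (C : MorphismProperty Scheme.{u})

/-- `R` has finitely many affine members over `U` forming a member of `C` -/
abbrev Adm {X : Over S} (R : Sieve X) (U : X.left.Opens) : Prop :=
  ∃ (κ : Type u) (_ : Finite κ) (V : κ → Over S) (φ : ∀ j, V j ⟶ X) (ψ : ∀ j, (V j).left ⟶ (U : Scheme.{u})),
    (∀ j, IsAffine (V j).left) ∧ (∀ j, R.arrows (φ j)) ∧ (∀ j, ψ j ≫ U.ι = (φ j).left) ∧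
      C (Limits.Sigma.desc ψ)

variable [C.IsStableUnderComposition] [C.IsStableUnderBaseChange]

theorem isIso_desc_unique {κ : Type u} [Unique κ] {A B : Scheme.{u}} (f : A ⟶ B) [IsIso f] :
    IsIso (Limits.Sigma.desc fun _ : κ => f) := by
  refine ⟨inv f ≫ Sigma.ι (fun _ : κ => A) default, Sigma.hom_ext _ _ fun j => ?_, ?_⟩
  · rw [Subsingleton.elim j default]
    simp
  · simp

theorem desc_const_iff {κ : Type u} [Unique κ] {A B : Scheme.{u}} (f : A ⟶ B) :
    C (Limits.Sigma.desc fun _ : κ => f) ↔ C f := by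
  haveI := isIso_desc_unique (κ := κ) (𝟙 A)
  rw [← C.cancel_left_of_respectsIso (Limits.Sigma.desc fun _ : κ => 𝟙 A) f]
  refine iff_of_eq (congrArg (fun t => C t) (Sigma.hom_ext _ _ fun j => ?_))
  simp

theorem id_mem
    (haff : ∀ (U : Scheme.{u}) [IsAffine U] (κ : Type u) [Finite κ] (V : κ → U.Opens),
      (∀ j, IsAffineOpen (V j)) → ⨆ j, V j = ⊤ → C (Limits.Sigma.desc fun j => (V j).ι))
    (U : Scheme.{u}) [IsAffine U] : C (𝟙 U) := by
  have h := haff U PUnit (fun _ => ⊤) (fun _ => isAffineOpen_top U) (iSup_const)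
  replace h := (desc_const_iff C _).1 h
  exact (C.arrow_mk_iso_iff (Arrow.isoMk U.topIso (Iso.refl _) (by simp [Scheme.topIso]))).1 h

theorem desc_comp
    (hcoprod : ∀ (κ : Type u) [Finite κ] (A B : κ → Scheme.{u}) (f : ∀ j, A j ⟶ B j),
      (∀ j, C (f j)) → C (Limits.Sigma.map f))
    {κ : Type u} [Finite κ] {μ : κ → Type u} {B : Scheme.{u}} {A : κ → Scheme.{u}}
    {T : ∀ j, μ j → Scheme.{u}} (ψ : ∀ j, A j ⟶ B) (χ : ∀ j m, T j m ⟶ A j)
    (h1 : C (Limits.Sigma.desc ψ)) (h2 : ∀ j, C (Limits.Sigma.desc (χ j))) :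
    C (Limits.Sigma.desc fun p : Σ j, μ j => χ p.1 p.2 ≫ ψ p.1) := by
  have h := (C.cancel_left_of_respectsIso (sigmaSigmaIso μ T).inv _).2
    (C.comp_mem _ _ (hcoprod κ _ _ (fun j => Limits.Sigma.desc (χ j)) h2) h1)
  convert h using 1
  refine Sigma.hom_ext _ _ fun p => ?_
  simp [sigmaSigmaIso]

theorem adm_of_mem
    (haff : ∀ (U : Scheme.{u}) [IsAffine U] (κ : Type u) [Finite κ] (V : κ → U.Opens),
      (∀ j, IsAffineOpen (V j)) → ⨆ j, V j = ⊤ → C (Limits.Sigma.desc fun j => (V j).ι))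
    {X : Over S} (R : Sieve X) {U : X.left.Opens} (hU : IsAffineOpen U)
    (hR : R.arrows (Over.homMk U.ι : Over.mk (U.ι ≫ X.hom) ⟶ X)) : Adm C R U := by
  haveI : IsAffine U := hU
  exact ⟨PUnit, inferInstance, fun _ => Over.mk (U.ι ≫ X.hom), fun _ => Over.homMk U.ι, fun _ => 𝟙 _,
    fun _ => (hU : IsAffine U), fun _ => hR, fun _ => Category.id_comp _, (desc_const_iff C _).2 (id_mem C haff (U : Scheme.{u}))⟩

theorem adm_pullback {X Y : Over S} {R : Sieve X} {U : X.left.Opens} (hU : IsAffineOpen U)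
    (h : Adm C R U) (g : Y ⟶ X) {W : Y.left.Opens} (hW : IsAffineOpen W) (le : W ≤ g.left ⁻¹ᵁ U) :
    Adm C (R.pullback g) W := by
  obtain ⟨κ, _, V, φ, ψ, hV, hφ, hψ, hC⟩ := h
  haveI : IsAffine U := hU
  haveI : IsAffine W := hW
  haveI : ∀ j, IsAffine (V j).left := hV
  let r : (W : Scheme.{u}) ⟶ U := g.left.resLE U W le
  let P : κ × PUnit.{u + 1} → Over S := fun p =>
    Over.mk (pullback.snd (ψ p.1) r ≫ W.ι ≫ Y.hom)
  refine ⟨κ × PUnit.{u + 1}, inferInstance, P,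
    fun p => Over.homMk (pullback.snd (ψ p.1) r ≫ W.ι) (by simp [P]), fun p => pullback.snd (ψ p.1) r,
    fun p => show IsAffine (pullback (ψ p.1) r) from inferInstance, fun p => ?_, fun p => rfl, ?_⟩
  · have e : (pullback.snd (ψ p.1) r ≫ W.ι) ≫ g.left = pullback.fst (ψ p.1) r ≫ (φ p.1).left := by
      rw [← hψ, pullback.condition_assoc, Category.assoc, Scheme.Hom.resLE_comp_ι]
    let a : P p ⟶ V p.1 := Over.homMk (pullback.fst (ψ p.1) r) (by
      change pullback.fst (ψ p.1) r ≫ (V p.1).hom = pullback.snd (ψ p.1) r ≫ W.ι ≫ Y.hom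
      rw [← Over.w (φ p.1), ← reassoc_of% e, Over.w g])
    have : (Over.homMk (pullback.snd (ψ p.1) r ≫ W.ι) (by simp [P]) : P p ⟶ Y) ≫ g = a ≫ φ p.1 :=
      Over.OverMorphism.ext e
    change R.arrows _
    rw [this]
    exact R.downward_closed (hφ p.1) a
  · haveI := isIso_desc_unique (κ := PUnit.{u + 1}) (𝟙 (W : Scheme.{u}))
    have sq := FinitaryPreExtensive.isPullback_sigmaDesc ψ (fun _ : PUnit.{u + 1} => r)
    have h := (C.cancel_right_of_respectsIso _ (Limits.Sigma.desc fun _ : PUnit.{u + 1} => 𝟙 (W : Scheme.{u}))).2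
      (C.of_isPullback sq hC)
    refine Eq.mp (congrArg (fun t => C t) ?_) h
    exact Sigma.hom_ext _ _ fun p => by simp; exact (Sigma.ι_desc (fun p : κ × PUnit.{u + 1} => pullback.snd (ψ p.1) r) p).symm

theorem exists_affine_refinement {Y : Scheme.{u}} {ι : Type u} {U : ι → Y.Opens} (hU : ⨆ i, U i = ⊤) :
    ⨆ W : {W : Y.Opens // IsAffineOpen W ∧ ∃ i, W ≤ U i}, W.1 = ⊤ := by
  refine top_unique fun x _ => ?_
  obtain ⟨i, hi⟩ := TopologicalSpace.Opens.mem_iSup.1 (hU.ge (Set.mem_univ x))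
  obtain ⟨W, hW, hxW, hWle⟩ := exists_isAffineOpen_mem_and_subset hi
  exact TopologicalSpace.Opens.mem_iSup.2 ⟨⟨W, hW, i, hWle⟩, hxW⟩

theorem exists_finite_subcover {Y : Scheme.{u}} [CompactSpace Y] {ι : Type u} {U : ι → Y.Opens}
    (hU : ⨆ i, U i = ⊤) : ∃ (κ : Type u) (_ : Finite κ) (e : κ → ι), ⨆ k, U (e k) = ⊤ := by
  obtain ⟨t, ht⟩ := isCompact_univ.elim_finite_subcover (fun i => (U i : Set Y)) (fun i => (U i).2)
    fun x _ => Set.mem_iUnion.2 (TopologicalSpace.Opens.mem_iSup.1 (hU.ge (Set.mem_univ x)))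
  refine ⟨{i // i ∈ t}, inferInstance, Subtype.val, top_unique fun x _ => ?_⟩
  obtain ⟨i, hi, hx⟩ := Set.mem_iUnion₂.1 (ht (Set.mem_univ x))
  exact TopologicalSpace.Opens.mem_iSup.2 ⟨⟨i, hi⟩, hx⟩

theorem mem_zariski_of_cover {X : Over S} (R : Sieve X) (𝒰 : Scheme.OpenCover.{u} X.left)
    (h : ∀ k, R.arrows (Over.homMk (𝒰.f k) : Over.mk (𝒰.f k ≫ X.hom) ⟶ X)) :
    R ∈ Scheme.zariskiTopology.over S X := by
  rw [GrothendieckTopology.mem_over_iff]
  refine Scheme.mem_grothendieckTopology_iff.2 ⟨𝒰, ?_⟩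
  rintro _ _ ⟨k⟩
  exact (Sieve.overEquiv_iff _ _).2 (h k)

theorem exists_affine_of_mem_zariski {X : Over S} {R : Sieve X} (h : R ∈ Scheme.zariskiTopology.over S X) :
    ⨆ W : {W : X.left.Opens // IsAffineOpen W ∧
      R.arrows (Over.homMk W.ι : Over.mk (W.ι ≫ X.hom) ⟶ X)}, W.1 = ⊤ := by
  rw [GrothendieckTopology.mem_over_iff] at h
  obtain ⟨𝒰, h𝒰⟩ := Scheme.mem_grothendieckTopology_iff.1 h
  refine top_unique fun x _ => ?_
  obtain ⟨k, y, rfl⟩ : ∃ k y, 𝒰.f k y = x := ⟨_, (Scheme.Cover.exists_eq 𝒰 x).choose_spec⟩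
  obtain ⟨W, hW, hxW, hWle⟩ := exists_isAffineOpen_mem_and_subset
    (show 𝒰.f k y ∈ (𝒰.f k).opensRange from ⟨y, rfl⟩)
  refine TopologicalSpace.Opens.mem_iSup.2 ⟨⟨W, hW, (Sieve.overEquiv_iff R _).1 ?_⟩, hxW⟩
  rw [show W.ι = IsOpenImmersion.lift (𝒰.f k) W.ι (by simpa using hWle) ≫ 𝒰.f k by simp]
  exact (Sieve.overEquiv X R).downward_closed (h𝒰 _ _ ⟨k⟩) _

end Groth.Agent.BigSite16
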