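import Groth.Prelude.Def_BigSite
import Groth.Agent.Lib.EtStalk.EtLift
import Groth.Agent.Lib.AlgSpDescent.RingSmooth
import Mathlib.RingTheory.RingHom.LocallyStandardSmooth
import Mathlib.AlgebraicGeometry.Morphisms.Smooth
import Mathlib.AlgebraicGeometry.Morphisms.Etale

/-! Closed immersions are almost cocontinuous for the big étale and smooth sites. -/

universe u

open CategoryTheory CategoryTheory.Limits AlgebraicGeometry

set_option linter.style.haveILetI false

namespace Groth.Agent.BigSite16.ClosedImm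

/-- Morphisms with property `P` into a closed subscheme of an affine scheme lift locally. -/
def Lifts (P : MorphismProperty Scheme.{u}) : Prop :=
  ∀ {A : CommRingCat.{u}} (I : Ideal A) {C : CommRingCat.{u}} (β : CommRingCat.of (A ⧸ I) ⟶ C),
    P (Spec.map β) → ∀ z : Spec C, ∃ (C' : CommRingCat.{u}) (l : C ⟶ C') (E : CommRingCat.{u}) (α : A ⟶ E)
      (φ : E ⟶ C'), z ∈ Set.range (Spec.map l) ∧ P (Spec.map α) ∧
      Function.Surjective φ.hom ∧ RingHom.ker φ.hom = I.map α.hom ∧
      α ≫ φ = CommRingCat.ofHom (Ideal.Quotient.mk I) ≫ β ≫ l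

theorem lifts_etale : Lifts.{u} @Etale := by
  intro A I C β hβ z
  letI : Algebra (A ⧸ I) C := β.hom.toAlgebra
  letI : Algebra A C := (β.hom.comp (Ideal.Quotient.mk I)).toAlgebra
  have : IsScalarTower A (A ⧸ I) C := IsScalarTower.of_algebraMap_eq fun _ => rfl
  have : Algebra.Etale (A ⧸ I) C := HasRingHomProperty.Spec_iff.1 hβ
  obtain ⟨E, _, _, _, φ, hφ, hker⟩ := Hens.exists_etale_lift A I C
  refine ⟨C, 𝟙 C, CommRingCat.of E, CommRingCat.ofHom (algebraMap A E), CommRingCat.ofHom φ.toRingHom,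
    ⟨z, by simp⟩, HasRingHomProperty.Spec_iff.2 (RingHom.etale_algebraMap.2 ‹Algebra.Etale A E›), hφ, hker, ?_⟩
  exact CommRingCat.hom_ext (RingHom.ext φ.commutes)

theorem lifts_smooth : Lifts.{u} @Smooth := by
  intro A I C β hβ z
  obtain ⟨s, hs, h⟩ := (HasRingHomProperty.Spec_iff.1 hβ : β.hom.Smooth).locally_isStandardSmooth
  obtain ⟨t, hts, ht⟩ : ∃ t ∈ s, t ∉ z.asIdeal := by
    by_contra hc
    push Not at hc
    exact z.isPrime.ne_top (top_le_iff.1 (hs ▸ Ideal.span_le.2 hc))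
  let C' := Localization.Away t
  letI : Algebra (A ⧸ I) C' := ((algebraMap C C').comp β.hom).toAlgebra
  letI : Algebra A C' := ((algebraMap (A ⧸ I) C').comp (Ideal.Quotient.mk I)).toAlgebra
  have : IsScalarTower A (A ⧸ I) C' := IsScalarTower.of_algebraMap_eq fun _ => rfl
  have : Algebra.IsStandardSmooth (A ⧸ I) C' := (RingHom.isStandardSmooth_algebraMap ..).1 (h t hts)
  obtain ⟨Q, _, _, g, hQ, hg, hker⟩ := AlgSpDescent.exists_standardSmooth_lift (R₁ := A) (B := A ⧸ I) (C := C')
    Ideal.Quotient.mk_surjective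
  have hk : RingHom.ker g = I.map (algebraMap A Q) := by
    refine le_antisymm ?_ ?_
    · exact hker.trans (Ideal.map_mono (le_of_eq Ideal.mk_ker))
    · rw [Ideal.map_le_iff_le_comap]
      intro a ha
      simp [RingHom.mem_ker, RingHom.algebraMap_toAlgebra, Ideal.Quotient.eq_zero_iff_mem.2 ha]
  refine ⟨CommRingCat.of C', CommRingCat.ofHom (algebraMap C C'), CommRingCat.of Q,
    CommRingCat.ofHom (algebraMap A Q), CommRingCat.ofHom g.toRingHom, ?_, ?_, hg, hk,
    CommRingCat.hom_ext (RingHom.ext g.commutes)⟩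
  · change z ∈ Set.range (PrimeSpectrum.comap (algebraMap C C'))
    rw [PrimeSpectrum.localization_away_comap_range C' t]
    exact ht
  · exact HasRingHomProperty.Spec_iff.2 (RingHom.IsStandardSmooth.smooth
      ((RingHom.isStandardSmooth_algebraMap ..).2 hQ))

variable {P : MorphismProperty Scheme.{u}} [P.IsStableUnderBaseChange] [P.IsStableUnderComposition]
  (hoi : ∀ {A B : Scheme.{u}} (g : A ⟶ B), IsOpenImmersion g → P g)

include hoi in
/-- Covers of a closed subscheme extend locally. -/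
theorem exists_lift_at (hP : Lifts P) {B V W : Scheme.{u}} (c : B ⟶ V) [IsClosedImmersion c]
    (d : W ⟶ B) (hd : P d) (w : W) :
    ∃ (T : Scheme.{u}) (q : T ⟶ V), P q ∧ c (d w) ∈ Set.range q ∧
      ∀ {B' : Scheme.{u}} (p : B' ⟶ T) (m : B' ⟶ B), p ≫ q = m ≫ c → ∃ k : B' ⟶ W, k ≫ d = m := by
  obtain ⟨Va, hVa, hwV, -⟩ := exists_isAffineOpen_mem_and_subset
    (U := (⊤ : V.Opens)) (x := c (d w)) (Set.mem_univ _)
  let A := Γ(V, Va)
  let j : Spec A ⟶ V := hVa.fromSpec
  have hcl : IsClosedImmersion (pullback.fst j c) := inferInstance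
  obtain ⟨I, e, he⟩ := IsClosedImmersion.Spec_iff.1 hcl
  let q₀ : Spec (CommRingCat.of (A ⧸ I)) ⟶ B := e.inv ≫ pullback.snd j c
  let π : Spec (CommRingCat.of (A ⧸ I)) ⟶ Spec A := Spec.map (CommRingCat.ofHom (Ideal.Quotient.mk I))
  have hq : IsPullback π q₀ j c := by
    refine IsPullback.of_iso_pullback ⟨?_⟩ e.symm ?_ rfl
    · have h1 : π = e.inv ≫ pullback.fst j c := by rw [he, e.inv_hom_id_assoc]
      rw [h1, Category.assoc, Category.assoc, pullback.condition]
    · change e.inv ≫ pullback.fst j c = π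
      rw [he, e.inv_hom_id_assoc]
  have hx0 : d w ∈ q₀.opensRange := by
    have : d w ∈ Set.range (pullback.snd j c) := by
      rw [Scheme.Pullback.range_snd]
      change c (d w) ∈ Set.range j
      rw [hVa.range_fromSpec]
      exact hwV
    obtain ⟨z, hz⟩ := this
    refine ⟨e.hom z, ?_⟩
    rw [← Scheme.Hom.comp_apply]
    simp only [q₀, e.hom_inv_id_assoc]
    exact hz
  obtain ⟨Wa, hWa, hwW, hsub⟩ := exists_isAffineOpen_mem_and_subset
    (U := d ⁻¹ᵁ q₀.opensRange) (x := w) hx0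
  let C := Γ(W, Wa)
  let k₀ : Spec C ⟶ W := hWa.fromSpec
  have hrange : Set.range (k₀ ≫ d) ⊆ Set.range q₀ := by
    rintro _ ⟨z, rfl⟩
    rw [Scheme.Hom.comp_apply]
    exact hsub (hWa.range_fromSpec.subset ⟨z, rfl⟩)
  obtain ⟨β, hβ⟩ := Spec.map_surjective (IsOpenImmersion.lift q₀ (k₀ ≫ d) hrange)
  have hβq : Spec.map β ≫ q₀ = k₀ ≫ d := by rw [hβ, IsOpenImmersion.lift_fac]
  have hPβ : P (Spec.map β) := by
    refine MorphismProperty.of_isPullback (P := P) (f := q₀) (g := k₀ ≫ d) (f' := 𝟙 (Spec C)) ?_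
      (P.comp_mem _ _ (hoi _ inferInstance) hd)
    refine IsPullback.flip ?_
    refine IsPullback.of_iso_pullback (fst := Spec.map β) (snd := 𝟙 _) ⟨by rw [hβq, Category.id_comp]⟩
      (@asIso _ _ _ _ (pullback.lift (Spec.map β) (𝟙 _) (by rw [hβq, Category.id_comp])) ?_)
      (pullback.lift_fst ..) (pullback.lift_snd ..)
    refine ⟨pullback.snd _ _, pullback.lift_snd .., ?_⟩
    apply pullback.hom_ext
    · rw [Category.assoc, pullback.lift_fst, ← cancel_mono q₀, Category.assoc, hβq, Category.id_comp,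
        pullback.condition]
    · rw [Category.assoc, pullback.lift_snd, Category.comp_id, Category.id_comp]
  obtain ⟨z, hz⟩ : w ∈ Set.range k₀ := by rw [hWa.range_fromSpec]; exact hwW
  obtain ⟨C', l, E, α, φ, ⟨z', hz'⟩, hα, hφ, hker, hcomm⟩ := hP I β hPβ z
  letI : Algebra A E := α.hom.toAlgebra
  letI : Algebra (A ⧸ I) C' := (β ≫ l).hom.toAlgebra
  have hsq : IsPullback (Spec.map φ) (Spec.map (β ≫ l) ≫ q₀) (Spec.map α ≫ j) c :=
    (isPullback_SpecMap_of_isPushout _ _ _ _ (EtStalk.isPushout_quotient I φ.hom hφ hker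
      (congrArg CommRingCat.Hom.hom hcomm))).paste_vert hq
  have hd' : Spec.map (β ≫ l) ≫ q₀ = (Spec.map l ≫ k₀) ≫ d := by
    rw [Spec.map_comp, Category.assoc, Category.assoc, hβq]
  refine ⟨Spec E, Spec.map α ≫ j, P.comp_mem _ _ hα (hoi _ inferInstance), ⟨Spec.map φ z', ?_⟩,
    fun {B'} p m hpm => ⟨hsq.lift p m hpm ≫ Spec.map l ≫ k₀, ?_⟩⟩
  · rw [← Scheme.Hom.comp_apply, hsq.w, hd', Scheme.Hom.comp_apply, Scheme.Hom.comp_apply,
      Scheme.Hom.comp_apply, hz', hz]
  · rw [Category.assoc, ← hd', hsq.lift_snd]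

theorem mem_J_of_points [P.ContainsIdentities] {S : Scheme.{u}} {U : Over S} (R : Sieve U)
    (h : ∀ x : U.left, ∃ (T : Scheme.{u}) (q : T ⟶ U.left), P q ∧ x ∈ Set.range q ∧
      R (Over.homMk q rfl : Over.mk (q ≫ U.hom) ⟶ U)) :
    R ∈ QuotSh.J (Scheme.precoverage P) S U := by
  choose T q hq hx hR using h
  rw [GrothendieckTopology.mem_over_iff, Precoverage.mem_toGrothendieck_iff_of_isStableUnderComposition]
  refine ⟨Presieve.ofArrows T q, ?_, ?_⟩
  · rw [Scheme.ofArrows_mem_precoverage_iff]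
    exact ⟨fun x => ⟨x, hx x⟩, hq⟩
  · rintro _ _ ⟨x⟩
    exact (Sieve.overEquiv_iff _ _).2 (hR x)

include hoi in
theorem isAlmostCocontinuous [P.ContainsIdentities] (hP : Lifts P) {X Y : Scheme.{u}} (f : X ⟶ Y)
    [IsClosedImmersion f] :
    BigSite.IsAlmostCocontinuous (Over.pullback f) (QuotSh.J (Scheme.precoverage P) Y)
      (QuotSh.J (Scheme.precoverage P) X) := by
  intro V R hR
  let L := QuotSh.J (Scheme.precoverage P) X
  let R' : Sieve V :=
    { arrows := fun {V'} g => (⊥ : Sieve ((Over.pullback f).obj V')) ∈ L ((Over.pullback f).obj V') ∨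
        R ((Over.pullback f).map g)
      downward_closed := fun {Z₁ Z₂} g hg m => by
        rcases hg with hg | hg
        · left
          have := L.pullback_stable ((Over.pullback f).map m) hg
          rwa [Sieve.pullback_bot] at this
        · right
          rw [Functor.map_comp]
          exact R.downward_closed hg _ }
  refine ⟨R', mem_J_of_points R' fun y => ?_, fun V' g hg => hg⟩
  let c := pullback.fst V.hom f
  have hc : IsClosedImmersion c := inferInstance
  by_cases hy : y ∈ Set.range c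
  · obtain ⟨b, hb⟩ := hy
    rw [GrothendieckTopology.mem_over_iff,
      Precoverage.mem_toGrothendieck_iff_of_isStableUnderComposition] at hR
    obtain ⟨Tc, hTc, hle⟩ := hR
    obtain ⟨ι, W, d, rfl⟩ := Tc.exists_eq_ofArrows
    rw [Scheme.ofArrows_mem_precoverage_iff] at hTc
    obtain ⟨i, w, hw⟩ := hTc.1 b
    obtain ⟨T, q, hq, hy', hk⟩ := exists_lift_at hoi hP c (d i) (hTc.2 i) w
    refine ⟨T, q, hq, ?_, Or.inr ?_⟩
    · rw [← hb, ← hw]
      exact hy'
    · have hRd := (Sieve.overEquiv_iff _ _).1 (hle _ _ ⟨i⟩)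
      let F := (Over.pullback f).map (Over.homMk q rfl : Over.mk (q ≫ V.hom) ⟶ V)
      obtain ⟨k, hk'⟩ := hk (pullback.fst (q ≫ V.hom) f) F.left (pullback.lift_fst ..).symm
      have e : F = (Over.homMk k (by
            show k ≫ d i ≫ _ = _
            rw [← Category.assoc, hk']
            exact Over.w F) : _ ⟶ Over.mk (d i ≫ ((Over.pullback f).obj V).hom)) ≫ Over.homMk (d i) rfl :=
        Over.OverMorphism.ext hk'.symm
      show R F
      rw [e]
      exact R.downward_closed hRd _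
  · let O : V.left.Opens := ⟨(Set.range c)ᶜ, c.isClosedEmbedding.isClosed_range.isOpen_compl⟩
    refine ⟨O, O.ι, hoi _ inferInstance, by rw [Scheme.Opens.range_ι]; exact hy, Or.inl ?_⟩
    refine mem_J_of_points _ fun x => False.elim ?_
    have hx : O.ι (pullback.fst (O.ι ≫ V.hom) f x) ∈ Set.range c := by
      refine ⟨pullback.lift (pullback.fst (O.ι ≫ V.hom) f ≫ O.ι) (pullback.snd (O.ι ≫ V.hom) f)
        (by rw [Category.assoc, pullback.condition]) x, ?_⟩
      rw [← Scheme.Hom.comp_apply, pullback.lift_fst]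
      rfl
    exact (pullback.fst (O.ι ≫ V.hom) f x).2 hx

end Groth.Agent.BigSite16.ClosedImm
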