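import Groth.Agent.Lib.BigSite16.Res
import Groth.Agent.Lib.SiteCoh.ExtAdj
import Mathlib.CategoryTheory.Sites.ConstantSheaf
import Mathlib.CategoryTheory.Sites.SheafCohomology.Basic

/-! Comparison of cohomology along restriction of sites. -/

universe w v v' u u'

open CategoryTheory CategoryTheory.Functor CategoryTheory.Limits Opposite Abelian

set_option linter.style.haveILetI false
set_option backward.isDefEq.respectTransparency false
set_option backward.isDefEq.respectTransparency.types false

namespace Groth.Agent.BigSite16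

variable {C : Type u} [Category.{v} C] {D : Type u'} [Category.{v'} D] {J : GrothendieckTopology C}
  {K : GrothendieckTopology D} (F : C ⥤ D) [F.IsContinuous J K]
  [HasSheafify J AddCommGrpCat.{w}] [HasSheafify K AddCommGrpCat.{w}]
  [HasExt.{w} (Sheaf J AddCommGrpCat.{w})] [HasExt.{w} (Sheaf K AddCommGrpCat.{w})]
  [EnoughInjectives (Sheaf K AddCommGrpCat.{w})]

/-- cohomology of a restriction is cohomology -/
theorem nonempty_H_push_equiv {T : C} (hT : IsTerminal T) (hT' : IsTerminal (F.obj T))
    [PreservesFiniteLimits (F.sheafPushforwardContinuous AddCommGrpCat.{w} J K)]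
    [PreservesFiniteColimits (F.sheafPushforwardContinuous AddCommGrpCat.{w} J K)]
    (hI : ∀ I : Sheaf K AddCommGrpCat.{w}, Injective I →
      Injective ((F.sheafPushforwardContinuous AddCommGrpCat.{w} J K).obj I))
    (G : Sheaf K AddCommGrpCat.{w}) (n : ℕ) :
    Nonempty (Sheaf.H.{w} ((F.sheafPushforwardContinuous AddCommGrpCat.{w} J K).obj G) n ≃+ Sheaf.H.{w} G n) := by
  let R := F.sheafPushforwardContinuous AddCommGrpCat.{w} J K
  haveI : R.Additive := { map_add := rfl }
  let Z := AddCommGrpCat.of (ULift.{w} ℤ)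
  let aC := constantSheafAdj J AddCommGrpCat.{w} hT
  let aD := constantSheafAdj K AddCommGrpCat.{w} hT'
  let η : (constantSheaf J AddCommGrpCat.{w}).obj Z ⟶ R.obj ((constantSheaf K AddCommGrpCat.{w}).obj Z) :=
    (aC.homEquiv Z (R.obj _)).symm (aD.homEquiv Z _ (𝟙 _))
  have h0 : ∀ Y, Function.Bijective fun x : (constantSheaf K AddCommGrpCat.{w}).obj Z ⟶ Y => η ≫ R.map x := fun Y => by
    have e : (fun x : (constantSheaf K AddCommGrpCat.{w}).obj Z ⟶ Y => η ≫ R.map x) =
        fun x => (aC.homEquiv Z (R.obj Y)).symm (aD.homEquiv Z Y x) := funext fun x => by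
      refine (aC.homEquiv_naturality_right_symm _ _).symm.trans (congrArg (aC.homEquiv Z (R.obj Y)).symm ?_)
      exact (aD.homEquiv_naturality_right _ x).symm.trans (congrArg _ (Category.id_comp x))
    rw [e]
    exact (aC.homEquiv Z (R.obj Y)).symm.bijective.comp (aD.homEquiv Z Y).bijective
  exact ⟨(AddEquiv.ofBijective _ (SiteCoh.bijective_extCompHom (R := R) η h0
    (fun I hI' k => haveI := hI I hI'; SiteCoh.subsingleton_ext_injective _ _ k) n G)).symm⟩

end Groth.Agent.BigSite16
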