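import Groth.Agent.Lib.BigSite16.ClosedImm
import Groth.Agent.Lib.BigSite16.AbExact
import Mathlib.CategoryTheory.Adjunction.Additive

/-! Exactness of the big direct image along closed immersions. -/

universe u

open CategoryTheory CategoryTheory.Limits AlgebraicGeometry

namespace Groth.Agent.BigSite16.PushExact

variable {X Y : Scheme.{u}} (f : X ⟶ Y) [IsClosedImmersion f]

theorem acc (K : Precoverage Scheme.{u}) (hK : K = Scheme.etalePrecoverage ∨ K = Scheme.precoverage @Smooth) :
    BigSite.IsAlmostCocontinuous (Over.pullback f) (QuotSh.J K Y) (QuotSh.J K X) := by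
  rcases hK with rfl | rfl
  · exact ClosedImm.isAlmostCocontinuous (P := @Etale) (fun g hg => inferInstance) ClosedImm.lifts_etale f
  · haveI : MorphismProperty.ContainsIdentities @Smooth := ⟨fun Z => (inferInstance : Smooth (𝟙 Z))⟩
    exact ClosedImm.isAlmostCocontinuous (P := @Smooth) (fun g hg => inferInstance) ClosedImm.lifts_smooth f

theorem wEq {S : Scheme.{u}} (J : GrothendieckTopology (Over S)) : J.WEqualsLocallyBijective (Type (u + 1)) :=
  inferInstanceAs (J.WEqualsLocallyBijective (Type (max (u + 1) u)))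

theorem pushBig_exact (K : Precoverage Scheme.{u})
    (hK : BigSite.IsAlmostCocontinuous (Over.pullback f) (QuotSh.J K Y) (QuotSh.J K X)) :
    PreservesColimitsOfShape WalkingParallelPair (BigSite.pushBig K f (Type (u + 1))) ∧
      PreservesColimitsOfShape WalkingSpan (BigSite.pushBig K f (Type (u + 1))) ∧
      PreservesFiniteColimits (BigSite.pushBig K f AddCommGrpCat.{u + 1}) := by
  haveI := wEq (QuotSh.J K Y)
  haveI := wEq (QuotSh.J K X)
  refine ⟨Cocont.preservesColimitsOfShape.{u + 1, u, u + 1, u, u + 1} hK, Cocont.preservesColimitsOfShape.{u + 1, u, u + 1, u, u + 1} hK, ?_⟩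
  let F := BigSite.pushBig K f AddCommGrpCat.{u + 1}
  haveI : PreservesLimitsOfSize.{0, 0} F := (BigSite.bigAdj K f AddCommGrpCat.{u + 1}).rightAdjoint_preservesLimits
  haveI : PreservesFiniteLimits F := PreservesLimitsOfSize.preservesFiniteLimits F
  haveI : F.Additive := Functor.additive_of_preserves_binary_products F
  rw [Functor.preservesFiniteColimits_iff_forall_exact_map_and_epi]
  intro S hS
  haveI := hS.epi_g
  haveI : Sheaf.IsLocallySurjective S.g := (Sheaf.isLocallySurjective_iff_epi' _ _).2 ‹_›
  haveI := Cocont.locallySurjective_ab hK S.g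
  exact ⟨((Functor.preservesFiniteLimits_iff_forall_exact_map_and_mono F).1 ‹_› S hS).1,
    (Sheaf.isLocallySurjective_iff_epi' _ _).1 ‹Sheaf.IsLocallySurjective (F.map S.g)›⟩

end Groth.Agent.BigSite16.PushExact
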